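import Mathlib.AlgebraicGeometry.Noetherian
import Mathlib.Topology.NoetherianSpace
import Mathlib.Topology.Sober
import Mathlib.Topology.KrullDimension

/-! Generic points of Noetherian schemes of dimension at most one. -/

set_option autoImplicit false

universe u

open CategoryTheory AlgebraicGeometry TopologicalSpace

noncomputable section

namespace Groth.Agent.PicCurveLib

variable {Y : Scheme.{u}}

/-- The generic points of the irreducible components. -/
def genPts (Y : Scheme.{u}) : Set Y := {η | closure {η} ∈ irreducibleComponents Y}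

theorem finite_genPts [NoetherianSpace Y] : (genPts Y).Finite := by
  refine Set.Finite.of_finite_image (f := fun η => closure ({η} : Set Y)) ?_ ?_
  · exact (NoetherianSpace.finite_irreducibleComponents (α := Y)).subset (by rintro _ ⟨η, hη, rfl⟩; exact hη)
  · exact fun a _ b _ h => (inseparable_iff_closure_eq.2 h).eq

theorem exists_genPt (y : Y) : ∃ η ∈ genPts Y, η ⤳ y := by
  obtain ⟨η, hη⟩ := QuasiSober.sober isIrreducible_irreducibleComponent
    (isClosed_irreducibleComponent (x := y))
  refine ⟨η, ?_, specializes_iff_mem_closure.2 ?_⟩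
  · show closure {η} ∈ irreducibleComponents Y
    rw [hη.def]
    exact irreducibleComponent_mem_irreducibleComponents y
  · rw [hη.def]
    exact mem_irreducibleComponent

theorem eq_of_specializes_genPt {η z : Y} (hη : η ∈ genPts Y) (h : z ⤳ η) : z = η := by
  have h1 : closure ({η} : Set Y) ≤ closure {z} :=
    closure_minimal (Set.singleton_subset_iff.2 (specializes_iff_mem_closure.1 h)) isClosed_closure
  have h2 := hη.2 isIrreducible_singleton.closure h1
  exact (inseparable_iff_closure_eq.2 (le_antisymm h2 h1)).eq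

theorem mem_of_dense {η : Y} [NoetherianSpace Y] (hη : η ∈ genPts Y) {V : Y.Opens}
    (hV : Dense (V : Set Y)) : η ∈ V := by
  have hopen : IsOpen (⋃ η' ∈ genPts Y \ {η}, closure ({η'} : Set Y))ᶜ :=
    ((finite_genPts.sdiff (t := {η})).isClosed_biUnion fun _ _ => isClosed_closure).isOpen_compl
  have hmem : η ∈ (⋃ η' ∈ genPts Y \ {η}, closure ({η'} : Set Y))ᶜ := fun h => by
    obtain ⟨η', ⟨hη', hne⟩, hcl⟩ := Set.mem_iUnion₂.1 h
    exact hne (eq_of_specializes_genPt hη (specializes_iff_mem_closure.2 hcl))
  obtain ⟨z, hzW, hzV⟩ := hV.inter_open_nonempty _ hopen ⟨η, hmem⟩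
  obtain ⟨η', hη', h'⟩ := exists_genPt z
  have he : η' = η := by_contra fun hne =>
    hzW (Set.mem_biUnion (x := η') ⟨hη', hne⟩ (specializes_iff_mem_closure.1 h'))
  exact (he ▸ h').mem_open V.isOpen hzV

/-- In dimension at most one, the other points are closed. -/
theorem isClosed_singleton_of_notMem_genPts (hdim : topologicalKrullDim Y ≤ 1) {y : Y}
    (hy : y ∉ genPts Y) : IsClosed ({y} : Set Y) := by
  obtain ⟨η, hη, hηy⟩ := exists_genPt y
  rw [← closure_subset_iff_isClosed]
  intro w hw
  by_contra hne
  let c : Y → IrreducibleCloseds Y := fun z => ⟨closure {z}, isIrreducible_singleton.closure, isClosed_closure⟩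
  have hlt : ∀ {a b : Y}, b ⤳ a → a ≠ b → c a < c b := fun {a b} h hne => by
    refine lt_of_le_of_ne (closure_minimal (Set.singleton_subset_iff.2 (specializes_iff_mem_closure.1 h))
      isClosed_closure) fun e => hne ?_
    exact (inseparable_iff_closure_eq.2 (congrArg IrreducibleCloseds.carrier e)).eq
  have h1 : c w < c y := hlt (specializes_iff_mem_closure.2 hw) hne
  have h2 : c y < c η := hlt hηy (fun e => hy (e ▸ hη))
  let p : LTSeries (IrreducibleCloseds Y) :=
    ((RelSeries.singleton _ (c w)).snoc (c y) h1).snoc (c η) (by rw [RelSeries.last_snoc]; exact h2)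
  have : (p.length : WithBot ℕ∞) ≤ 1 :=
    le_trans (le_iSup (fun q : LTSeries (IrreducibleCloseds Y) => (q.length : WithBot ℕ∞)) p) hdim
  norm_cast at this

/-- A closed set of closed points in a Noetherian space is finite. -/
theorem finite_of_isClosed [NoetherianSpace Y] {C : Set Y} (hC : IsClosed C)
    (h : ∀ y ∈ C, IsClosed ({y} : Set Y)) : C.Finite := by
  obtain ⟨S, hS, hSc, hSi, rfl⟩ := NoetherianSpace.exists_finite_set_isClosed_irreducible hC
  refine Set.Finite.sUnion hS fun t ht => ?_
  obtain ⟨η, hη⟩ := QuasiSober.sober (hSi t ht) (hSc t ht)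
  rw [← hη.def, (h η ⟨t, ht, hη.mem⟩).closure_eq]
  exact Set.finite_singleton η

theorem finite_of_disjoint_genPts [NoetherianSpace Y] (hdim : topologicalKrullDim Y ≤ 1) {C : Set Y}
    (hC : IsClosed C) (h : ∀ η ∈ genPts Y, η ∉ C) :
    C.Finite ∧ ∀ y ∈ C, IsClosed ({y} : Set Y) :=
  have h' : ∀ y ∈ C, IsClosed ({y} : Set Y) := fun y hy =>
    isClosed_singleton_of_notMem_genPts hdim fun hg => h y hg hy
  ⟨finite_of_isClosed hC h', h'⟩

end Groth.Agent.PicCurveLib
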