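import Groth.Agent.PicCurveLib.Generic
import Groth.Agent.PicCurveLib.Glue
import Groth.Agent.FreeFiniteLib.Basic
import Groth.Agent.DCohLib.FreeInd
import Mathlib.AlgebraicGeometry.Morphisms.Finite
import Mathlib.AlgebraicGeometry.Morphisms.ClosedImmersion

/-! Lifting units and bases along finite morphisms that are generically closed immersions. -/

set_option autoImplicit false
set_option linter.style.haveILetI false

universe u

open CategoryTheory AlgebraicGeometry TopologicalSpace Opposite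
open Groth.Agent.ParaFLib

noncomputable section

namespace Groth.Agent.PicCurveLib

variable {X Y : Scheme.{u}}

theorem res_appLE (f : X ⟶ Y) {O : Y.Opens} {P P' : X.Opens} (e : P ≤ f ⁻¹ᵁ O) (h : P' ≤ P) (r : Γ(Y, O)) :
    X.presheaf.map (homOfLE h).op (f.appLE O P e r) = f.appLE O P' (h.trans e) r :=
  ConcreteCategory.congr_hom (f.appLE_map e (homOfLE h).op) r

theorem appLE_res (f : X ⟶ Y) {O O' : Y.Opens} {P : X.Opens} (e : P ≤ f ⁻¹ᵁ O') (h : O' ≤ O) (r : Γ(Y, O)) :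
    f.appLE O' P e (Y.presheaf.map (homOfLE h).op r) = f.appLE O P (e.trans (f.preimage_mono h)) r :=
  ConcreteCategory.congr_hom (f.map_appLE e (homOfLE h).op) r

theorem resX_resX {a b c : X.Opens} (h₁ : b ≤ a) (h₂ : c ≤ b) (r : Γ(X, a)) :
    X.presheaf.map (homOfLE h₂).op (X.presheaf.map (homOfLE h₁).op r) =
      X.presheaf.map (homOfLE (h₂.trans h₁)).op r := by
  rw [← ConcreteCategory.comp_apply, ← Functor.map_comp]
  rfl

theorem surjective_app_of_restrict (f : X ⟶ Y) {V : Y.Opens} (hfV : IsClosedImmersion (f ∣_ V))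
    {A : Y.Opens} (hA : IsAffineOpen A) (hAV : A ≤ V) : Function.Surjective (f.app A) := by
  haveI := hfV
  have hA' : IsAffineOpen (V.ι ⁻¹ᵁ A) :=
    hA.preimage_of_isOpenImmersion V.ι (by rwa [Scheme.Opens.opensRange_ι])
  have h := (f ∣_ V).app_surjective _ hA'
  rw [morphismRestrict_app] at h
  have key : ∀ O : Y.Opens, O = A → Function.Surjective (f.app O) → Function.Surjective (f.app A) := by
    rintro O rfl ho
    exact ho
  refine key (V.ι ''ᵁ V.ι ⁻¹ᵁ A) (by rw [Scheme.Hom.image_preimage_eq_opensRange_inf,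
    Scheme.Opens.opensRange_ι, inf_eq_right.2 hAV]) fun r => ?_
  let ψ := X.presheaf.map (eqToHom (image_morphismRestrict_preimage f V (V.ι ⁻¹ᵁ A))).op
  obtain ⟨a, ha⟩ := h (ψ r)
  exact ⟨a, (ConcreteCategory.bijective_of_isIso ψ).1 ha⟩

theorem subsingleton_secX {O : X.Opens} (hO : O = ⊥) : Subsingleton Γ(X, O) := by
  subst hO
  exact CommRingCat.subsingleton_of_isTerminal X.sheaf.isTerminalOfEmpty

/-- Units on the preimage lift near a point of the locus of closed immersion. -/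
theorem exists_lift_unit (f : X ⟶ Y) [IsFinite f] {V : Y.Opens} (hfV : IsClosedImmersion (f ∣_ V))
    {η : Y} {Ω : Y.Opens} (hη : η ∈ Ω) (hΩ : Ω ≤ V) (u : Γ(X, f ⁻¹ᵁ Ω)) (hu : IsUnit u) :
    ∃ (O : Y.Opens) (hO : O ≤ Ω), η ∈ O ∧ ∃ v : Γ(Y, O), IsUnit v ∧
      f.appLE O (f ⁻¹ᵁ O) le_rfl v = X.presheaf.map (homOfLE (f.preimage_mono hO)).op u := by
  by_cases hr : η ∈ Set.range f
  · obtain ⟨z, rfl⟩ := hr
    obtain ⟨_, ⟨A, hA, rfl⟩, hzA, hAΩ⟩ :=
      Y.isBasis_affineOpens.exists_subset_of_mem_open hη Ω.isOpen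
    have hAΩ' : A ≤ Ω := hAΩ
    obtain ⟨g, hg⟩ := surjective_app_of_restrict f hfV hA (hAΩ'.trans hΩ)
      (X.presheaf.map (homOfLE (f.preimage_mono hAΩ')).op u)
    have hzb : f z ∈ Y.basicOpen g := by
      rw [Y.mem_basicOpen g (f z) hzA]
      apply (isUnit_map_iff (f.stalkMap z).hom _).1
      have : IsUnit (X.presheaf.germ (f ⁻¹ᵁ A) z hzA (f.app A g)) := by
        rw [hg, TopCat.Presheaf.germ_res_apply]
        exact hu.map _
      rwa [← Scheme.Hom.germ_stalkMap_apply] at this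
    refine ⟨Y.basicOpen g, (Y.basicOpen_le g).trans hAΩ', hzb,
      Y.presheaf.map (homOfLE (Y.basicOpen_le g)).op g, RingedSpace.isUnit_res_basicOpen _ g, ?_⟩
    rw [appLE_res, ← res_appLE f (le_refl (f ⁻¹ᵁ A)) (f.preimage_mono (Y.basicOpen_le g))]
    have e : f.appLE A (f ⁻¹ᵁ A) le_rfl g = f.app A g := by
      rw [Scheme.Hom.app_eq_appLE]
    rw [e, hg, resX_resX]
  · let R : Y.Opens := ⟨(Set.range f)ᶜ, f.isClosedMap.isClosed_range.isOpen_compl⟩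
    refine ⟨Ω ⊓ R, inf_le_left, ⟨hη, hr⟩, 1, isUnit_one, ?_⟩
    haveI := subsingleton_secX (X := X) (O := f ⁻¹ᵁ (Ω ⊓ R))
      (le_bot_iff.1 fun z hz => hz.2 ⟨z, rfl⟩)
    exact Subsingleton.elim _ _

/-- An open neighbourhood of a generic point consisting of its specialisations only. -/
def genNhd [NoetherianSpace Y] (η : Y) : Y.Opens :=
  ⟨(⋃ η' ∈ genPts Y \ {η}, closure ({η'} : Set Y))ᶜ,
    ((finite_genPts.sdiff (t := {η})).isClosed_biUnion fun _ _ => isClosed_closure).isOpen_compl⟩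

theorem mem_genNhd [NoetherianSpace Y] {η : Y} (hη : η ∈ genPts Y) : η ∈ genNhd η := fun h => by
  obtain ⟨η', ⟨hη', hne⟩, hcl⟩ := Set.mem_iUnion₂.1 h
  exact hne (eq_of_specializes_genPt hη (specializes_iff_mem_closure.2 hcl))

theorem specializes_of_mem_genNhd [NoetherianSpace Y] {η z : Y} (h : z ∈ genNhd η) : η ⤳ z := by
  obtain ⟨η', hη', h'⟩ := exists_genPt z
  have he : η' = η := by_contra fun hne =>
    h (Set.mem_biUnion (x := η') (⟨hη', hne⟩ : η' ∈ genPts Y \ {η}) (specializes_iff_mem_closure.1 h'))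
  exact he ▸ h'

theorem genNhd_disjoint [NoetherianSpace Y] {η η' : Y} (hη : η ∈ genPts Y) (hne : η ≠ η') :
    genNhd η ⊓ genNhd η' = (⊥ : Y.Opens) :=
  le_bot_iff.1 fun z hz => absurd (Set.mem_biUnion (x := η) (⟨hη, hne⟩ : η ∈ genPts Y \ {η'})
    (specializes_iff_mem_closure.1 (specializes_of_mem_genNhd hz.1))) hz.2

/-- Units on pairwise disjoint opens lifting a given unit glue. -/
theorem exists_unit_of_disjoint (f : X ⟶ Y) {κ : Type u} (B : κ → Y.Opens) {W : Y.Opens}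
    (hd : ∀ i j, i ≠ j → B i ⊓ B j = ⊥) (hW : iSup B = W) (u : Γ(X, f ⁻¹ᵁ W))
    (hle : ∀ i, B i ≤ W)
    (h : ∀ i, ∃ v : Γ(Y, B i), IsUnit v ∧
      f.appLE (B i) (f ⁻¹ᵁ B i) le_rfl v = X.presheaf.map (homOfLE (f.preimage_mono (hle i))).op u) :
    ∃ v : Γ(Y, W), IsUnit v ∧ f.appLE W (f ⁻¹ᵁ W) le_rfl v = u := by
  choose v hvu hv using h
  obtain ⟨g, hg, -⟩ := Y.sheaf.existsUnique_gluing' B W (fun i => homOfLE (hle i)) hW.ge v fun i j => by
    by_cases hij : i = j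
    · subst hij
      rfl
    · haveI := subsingleton_secX (X := Y) (hd i j hij)
      exact Subsingleton.elim (α := Γ(Y, B i ⊓ B j)) _ _
  have hg' : ∀ i, Y.presheaf.map (homOfLE (hle i)).op g = v i := hg
  refine ⟨g, RingedSpace.isUnit_of_isUnit_germ _ _ _ fun y hy => ?_, ?_⟩
  · obtain ⟨i, hi⟩ := Opens.mem_iSup.1 (hW.ge hy)
    have h1 := (hvu i).map (Y.presheaf.germ (B i) y hi).hom
    rw [← hg' i] at h1
    erw [TopCat.Presheaf.germ_res_apply] at h1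
    exact h1
  · refine X.sheaf.eq_of_locally_eq' (fun i => f ⁻¹ᵁ B i) _ (fun i => homOfLE (f.preimage_mono (hle i)))
      (fun z hz => ?_) _ _ fun i => ?_
    · obtain ⟨i, hi⟩ := Opens.mem_iSup.1 (hW.ge (show f z ∈ W from hz))
      exact Opens.mem_iSup.2 ⟨i, hi⟩
    · show X.presheaf.map _ (f.appLE W _ le_rfl g) = X.presheaf.map _ u
      rw [res_appLE, ← hv i, ← hg' i, appLE_res]

/-- Near a point outside `V0`, units on preimages lift to units on `V0`. -/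
theorem exists_lift_near [NoetherianSpace Y] (hdim : topologicalKrullDim Y ≤ 1) (f : X ⟶ Y) [IsFinite f]
    {V : Y.Opens} (hfV : IsClosedImmersion (f ∣_ V)) {V0 : Y.Opens} (hV0 : V0 ≤ V)
    (hgen : ∀ η ∈ genPts Y, η ∈ V0) {y : Y} (hy : y ∉ V0) {D0 : Y.Opens} (hyD : y ∈ D0)
    (u : Γ(X, f ⁻¹ᵁ (D0 ⊓ V0))) (hu : IsUnit u) :
    ∃ (D : Y.Opens) (hD : D ≤ D0), y ∈ D ∧ ∃ v : Γ(Y, D ⊓ V0), IsUnit v ∧
      f.appLE (D ⊓ V0) (f ⁻¹ᵁ (D ⊓ V0)) le_rfl v =
        X.presheaf.map (homOfLE (f.preimage_mono (inf_le_inf_right V0 hD))).op u := by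
  have hex : ∀ η : genPts Y, ∃ O : Y.Opens, η.1 ∈ O ∧ O ≤ genNhd η.1 ∧
      ∃ v : Γ(Y, D0 ⊓ V0 ⊓ O), IsUnit v ∧ f.appLE _ (f ⁻¹ᵁ (D0 ⊓ V0 ⊓ O)) le_rfl v =
        X.presheaf.map (homOfLE (f.preimage_mono inf_le_left)).op u := by
    rintro ⟨η, hη⟩
    by_cases hD : η ∈ D0
    · obtain ⟨O, hO, hηO, v, hv, hfv⟩ := exists_lift_unit f hfV (Ω := D0 ⊓ V0 ⊓ genNhd η)
        ⟨⟨hD, hgen η hη⟩, mem_genNhd hη⟩ ((inf_le_left.trans inf_le_right).trans hV0)
        (X.presheaf.map (homOfLE (f.preimage_mono inf_le_left)).op u) (hu.map _)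
      refine ⟨O, hηO, hO.trans inf_le_right, Y.presheaf.map (homOfLE inf_le_right).op v, hv.map _, ?_⟩
      rw [appLE_res, ← res_appLE f (le_refl (f ⁻¹ᵁ O))
        (f.preimage_mono (inf_le_right : D0 ⊓ V0 ⊓ O ≤ O)), hfv, resX_resX, resX_resX]
    · refine ⟨genNhd η, mem_genNhd hη, le_rfl, 1, isUnit_one, ?_⟩
      haveI := subsingleton_secX (X := X) (O := f ⁻¹ᵁ (D0 ⊓ V0 ⊓ genNhd η)) (le_bot_iff.1 fun z hz =>
        absurd ((specializes_of_mem_genNhd hz.2).mem_open D0.isOpen hz.1.1) hD)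
      exact Subsingleton.elim _ _
  choose O hηO hON v hv hfv using hex
  let C : Set Y := ((⨆ η, O η : Y.Opens) : Set Y)ᶜ
  have hC : IsClosed C := (⨆ η, O η : Y.Opens).isOpen.isClosed_compl
  obtain ⟨hCf, hCc⟩ := finite_of_disjoint_genPts hdim hC fun η hη h =>
    h (Opens.mem_iSup.2 ⟨⟨η, hη⟩, hηO _⟩)
  have hE : IsClosed (⋃ z ∈ C \ {y}, ({z} : Set Y)) :=
    hCf.sdiff.isClosed_biUnion fun z hz => hCc z hz.1
  let D : Y.Opens := D0 ⊓ ⟨_, hE.isOpen_compl⟩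
  refine ⟨D, inf_le_left, ⟨hyD, fun h => ?_⟩, ?_⟩
  · obtain ⟨z, hz, hyz⟩ := Set.mem_iUnion₂.1 h
    exact hz.2 hyz.symm
  refine exists_unit_of_disjoint f (fun η => D ⊓ V0 ⊓ O η) (fun i j hij => le_bot_iff.1 ?_)
    (le_antisymm (iSup_le fun η => inf_le_left) fun z hz => ?_) _ (fun η => inf_le_left) fun η => ?_
  · exact (inf_le_inf (inf_le_right.trans (hON i)) (inf_le_right.trans (hON j))).trans
      (genNhd_disjoint i.2 fun e => hij (Subtype.ext e)).le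
  · by_contra hne
    have hzC : z ∈ C := fun h => by
      obtain ⟨η, hη⟩ := Opens.mem_iSup.1 h
      exact hne (Opens.mem_iSup.2 ⟨η, hz, hη⟩)
    exact hz.1.2 (Set.mem_biUnion (x := z) ⟨hzC, fun e => hy ((Set.mem_singleton_iff.1 e) ▸ hz.2)⟩ rfl)
  · have hle : D ⊓ V0 ⊓ O η ≤ D0 ⊓ V0 ⊓ O η := inf_le_inf_right _ (inf_le_inf_right _ inf_le_left)
    refine ⟨Y.presheaf.map (homOfLE hle).op (v η), (hv η).map _, ?_⟩
    rw [appLE_res, ← res_appLE f (le_refl (f ⁻¹ᵁ (D0 ⊓ V0 ⊓ O η))) (f.preimage_mono hle), hfv η,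
      resX_resX, resX_resX]

/-- An invertible module is trivial over the preimage of a neighbourhood of any point. -/
theorem exists_gen_finite (f : X ⟶ Y) [IsFinite f] {L : X.Modules} (hL : PicF.IsInvertible L) (y : Y) :
    ∃ A : Y.Opens, y ∈ A ∧ ∃ s : Γ(L, f ⁻¹ᵁ A), Gen (f ⁻¹ᵁ A) s := by
  obtain ⟨_, ⟨W, hW, rfl⟩, hyW, -⟩ :=
    Y.isBasis_affineOpens.exists_subset_of_mem_open (Set.mem_univ y) isOpen_univ
  have hF : FlatMod.IsFinLocFreeOfRank 1 L := fun x => by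
    obtain ⟨O, hx, ⟨i⟩⟩ := hL x
    exact ⟨O, hx, ⟨i ≪≫ (DCohLib.freeModOne _).symm⟩⟩
  obtain ⟨U', hZ, -, ⟨e⟩⟩ := FreeFiniteLib.exists_free_nhd_finite L hF (hW.preimage f)
    (f.finite_preimage_singleton y) (fun z hz => show f z ∈ W from (show f z = y from hz).symm ▸ hyW)
  obtain ⟨s, hs⟩ := exists_gen_of_iso (e ≪≫ DCohLib.freeModOne _)
  let A : Y.Opens := ⟨(f '' (U' : Set X)ᶜ)ᶜ, (f.isClosedMap _ U'.2.isClosed_compl).isOpen_compl⟩
  have hle : f ⁻¹ᵁ A ≤ U'.ι ''ᵁ ⊤ := fun z hz => by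
    rw [Scheme.Opens.ι_image_top]
    by_contra h
    exact hz ⟨z, h, rfl⟩
  exact ⟨A, fun ⟨z, hz, hzy⟩ => hz (hZ hzy), _, hs.res hle⟩

end Groth.Agent.PicCurveLib
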