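import Mathlib.AlgebraicGeometry.AffineScheme
import Mathlib.AlgebraicGeometry.Stalk
import Mathlib.AlgebraicGeometry.Morphisms.QuasiCompact
import Mathlib.RingTheory.Ideal.MinimalPrime.Noetherian
import Mathlib.RingTheory.KrullDimension.LocalRing
import Mathlib.RingTheory.Spectrum.Prime.Topology

/-! Neighbourhoods of a point whose local ring is Noetherian of dimension at most one. -/

set_option autoImplicit false

universe u

open CategoryTheory AlgebraicGeometry TopologicalSpace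

noncomputable section

namespace Groth.Agent.PicCurveLib

variable {X : Scheme.{u}} {x : X}

theorem finite_generalisations (hN : IsNoetherianRing (X.presheaf.stalk x))
    (hd : ringKrullDim (X.presheaf.stalk x) ≤ 1) : {y : X | y ⤳ x}.Finite := by
  haveI := hN
  haveI : Ring.KrullDimLE 1 (X.presheaf.stalk x) := Ring.krullDimLE_iff.2 hd
  rw [← Scheme.range_fromSpecStalk, ← Set.image_univ]
  refine Set.Finite.image _ ?_
  refine (((minimalPrimes.finite_of_isNoetherianRing (X.presheaf.stalk x)).insert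
    (IsLocalRing.maximalIdeal (X.presheaf.stalk x))).preimage
      (f := fun Q : PrimeSpectrum (X.presheaf.stalk x) => Q.asIdeal) ?_).subset ?_
  · exact fun a _ b _ h => PrimeSpectrum.ext h
  · intro Q _
    rcases Ring.krullDimLE_one_iff.1 ‹_› Q.asIdeal Q.isPrime with h | h
    · exact Set.mem_insert_of_mem _ h
    · exact Set.mem_insert_iff.2 (Or.inl (IsLocalRing.eq_maximalIdeal h))

/-- Among the proper generalisations of `x` there are no specialisations. -/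
theorem eq_of_specializes (hN : IsNoetherianRing (X.presheaf.stalk x))
    (hd : ringKrullDim (X.presheaf.stalk x) ≤ 1) {y y' : X} (hy : y ⤳ x) (h : y' ⤳ y) (hne : y ≠ x) :
    y' = y := by
  haveI := hN
  haveI : Ring.KrullDimLE 1 (X.presheaf.stalk x) := Ring.krullDimLE_iff.2 hd
  obtain ⟨Q, rfl⟩ := (Set.ext_iff.1 (Scheme.range_fromSpecStalk (x := x)) y).2 hy
  obtain ⟨Q', rfl⟩ := (Set.ext_iff.1 (Scheme.range_fromSpecStalk (x := x)) y').2 (h.trans hy)
  have hle : Q'.asIdeal ≤ Q.asIdeal :=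
    (PrimeSpectrum.le_iff_specializes Q' Q).2
      ((X.fromSpecStalk x).isEmbedding.isInducing.specializes_iff.1 h)
  rcases Ring.krullDimLE_one_iff.1 ‹_› Q.asIdeal Q.isPrime with hm | hm
  · exact congrArg _ (PrimeSpectrum.ext (le_antisymm hle (hm.2 ⟨Q'.isPrime, bot_le⟩ hle)))
  · refine absurd ?_ hne
    have : Q = IsLocalRing.closedPoint _ := PrimeSpectrum.ext (IsLocalRing.eq_maximalIdeal hm)
    rw [this, Scheme.fromSpecStalk_closedPoint]

variable {V : X.Opens} (hV : IsAffineOpen V)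

include hV in
theorem mem_basicOpen_iff {y : X} (hy : y ∈ V) (t : Γ(X, V)) :
    y ∈ X.basicOpen t ↔ t ∉ (hV.primeIdealOf ⟨y, hy⟩).asIdeal := by
  have h1 : hV.fromSpec (hV.primeIdealOf ⟨y, hy⟩) = y := hV.fromSpec_primeIdealOf ⟨y, hy⟩
  conv_lhs => rw [← h1]
  show hV.primeIdealOf ⟨y, hy⟩ ∈ hV.fromSpec ⁻¹ᵁ X.basicOpen t ↔ _
  rw [hV.fromSpec_preimage_basicOpen t]
  exact Iff.rfl

include hV in
/-- If every point of `D(a)` generalising `x` lies in `O`, then near `x` all of `D(a)` does. -/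
theorem exists_shrink (hx : x ∈ V) (a : Γ(X, V)) (O : X.Opens)
    (h : ∀ y ∈ X.basicOpen a, y ⤳ x → y ∈ O) :
    ∃ t : Γ(X, V), x ∈ X.basicOpen t ∧ X.basicOpen t ⊓ X.basicOpen a ≤ O := by
  let p := hV.primeIdealOf ⟨x, hx⟩
  obtain ⟨I, hI⟩ := (PrimeSpectrum.isClosed_iff_zeroLocus_ideal _).1
    (hV.fromSpec ⁻¹ᵁ O).isOpen.isClosed_compl
  have hI' : ∀ q, q ∉ PrimeSpectrum.zeroLocus (I : Set Γ(X, V)) → hV.fromSpec q ∈ O := fun q hq => by
    rw [← hI] at hq
    exact not_not.1 hq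
  by_cases hd : Disjoint (I : Set Γ(X, V)) (p.asIdeal.primeCompl ⊔ Submonoid.powers a : Submonoid Γ(X, V))
  · obtain ⟨Q, hQ, hIQ, hQS⟩ := Ideal.exists_le_prime_disjoint I _ hd
    let q : PrimeSpectrum Γ(X, V) := ⟨Q, hQ⟩
    have hQp : Q ≤ p.asIdeal := fun r hr => by
      by_contra hrp
      exact Set.disjoint_left.1 hQS hr (Submonoid.mem_sup_left hrp)
    have haQ : a ∉ Q := fun ha =>
      Set.disjoint_left.1 hQS ha (Submonoid.mem_sup_right (Submonoid.mem_powers a))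
    have hya : hV.fromSpec q ∈ X.basicOpen a := by
      show q ∈ hV.fromSpec ⁻¹ᵁ X.basicOpen a
      rw [hV.fromSpec_preimage_basicOpen a]
      exact haQ
    have hyx : hV.fromSpec q ⤳ x := by
      have := ((PrimeSpectrum.le_iff_specializes q p).1 hQp).map hV.fromSpec.continuous
      rwa [hV.fromSpec_primeIdealOf ⟨x, hx⟩] at this
    exact absurd (h _ hya hyx) (hI.ge hIQ)
  · obtain ⟨z, hzI, hzS⟩ := Set.not_disjoint_iff.1 hd
    obtain ⟨t, ht, _, ⟨n, rfl⟩, rfl⟩ := Submonoid.mem_sup.1 hzS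
    refine ⟨t, (mem_basicOpen_iff hV hx t).2 ht, ?_⟩
    rintro y ⟨hyt, hya⟩
    have hyV : y ∈ V := X.basicOpen_le a hya
    have hfs : hV.fromSpec (hV.primeIdealOf ⟨y, hyV⟩) = y := hV.fromSpec_primeIdealOf ⟨y, hyV⟩
    show y ∈ O
    rw [← hfs]
    refine hI' _ fun hq => ?_
    rcases (hV.primeIdealOf ⟨y, hyV⟩).isPrime.mem_or_mem (hq hzI) with h' | h'
    · exact (mem_basicOpen_iff hV hyV t).1 hyt h'
    · exact (mem_basicOpen_iff hV hyV a).1 hya ((hV.primeIdealOf ⟨y, hyV⟩).isPrime.mem_of_pow_mem n h')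

/-- Near `x`, the open `U` is the non-vanishing locus of one function. -/
theorem exists_chart {U : X.Opens} [QuasiCompact U.ι] (hdisc : DiscreteTopology ↥((U : Set X)ᶜ))
    (hxU : x ∉ U) (hN : IsNoetherianRing (X.presheaf.stalk x))
    (hd : ringKrullDim (X.presheaf.stalk x) ≤ 1) :
    ∃ (D : X.Opens) (f : Γ(X, D)), IsAffineOpen D ∧ x ∈ D ∧ (∀ y ∈ D, y ∉ U → y = x) ∧
      D ⊓ U = X.basicOpen f := by
  classical
  obtain ⟨W, hW, hWx⟩ := isOpen_induced_iff.1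
    (@isOpen_discrete _ _ hdisc ({⟨x, hxU⟩} : Set ↥((U : Set X)ᶜ)))
  have hxW : x ∈ W := by
    have : (⟨x, hxU⟩ : ↥((U : Set X)ᶜ)) ∈ Subtype.val ⁻¹' W := by rw [hWx]; rfl
    exact this
  obtain ⟨_, ⟨A, hA, rfl⟩, hxA, hAW⟩ := X.isBasis_affineOpens.exists_subset_of_mem_open hxW hW
  have honly : ∀ y ∈ A, y ∉ U → y = x := fun y hy hyU => by
    have : (⟨y, hyU⟩ : ↥((U : Set X)ᶜ)) ∈ Subtype.val ⁻¹' W := hAW hy
    rw [hWx] at this
    exact congrArg Subtype.val this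
  -- the finitely many generalisations of `x` in `U`
  have hT : {y : X | y ⤳ x ∧ y ∈ U}.Finite :=
    (finite_generalisations hN hd).subset fun y hy => hy.1
  have hTA : ∀ y : X, y ⤳ x → y ∈ A := fun y hy => hy.mem_open A.isOpen hxA
  let p := hA.primeIdealOf ⟨x, hxA⟩
  let q : {y : X | y ⤳ x ∧ y ∈ U} → Ideal Γ(X, A) := fun y =>
    (hA.primeIdealOf ⟨y.1, hTA y.1 y.2.1⟩).asIdeal
  haveI := hT.fintype
  obtain ⟨f, hfp, hf⟩ : ∃ f ∈ p.asIdeal, ∀ y, f ∉ q y := by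
    by_contra! hne
    let s0 : Finset {y : X | y ⤳ x ∧ y ∈ U} := Finset.univ
    have hsub : (p.asIdeal : Set Γ(X, A)) ⊆ ⋃ i ∈ (↑s0 : Set {y : X | y ⤳ x ∧ y ∈ U}), (q i : Set Γ(X, A)) :=
      fun r hr => by
        obtain ⟨i, hi⟩ := hne r hr
        exact Set.mem_biUnion (Finset.mem_coe.2 (Finset.mem_univ i)) hi
    rcases isEmpty_or_nonempty {y : X | y ⤳ x ∧ y ∈ U} with hem | ⟨⟨y0⟩⟩
    · exact hem.elim (hne 0 p.asIdeal.zero_mem).choose
    obtain ⟨i, -, hi⟩ :=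
      (Ideal.subset_union_prime y0 y0 (fun i _ _ _ => (hA.primeIdealOf _).isPrime)).1 hsub
    have hsp : hA.primeIdealOf ⟨i.1, hTA i.1 i.2.1⟩ ⤳ p := by
      refine hA.fromSpec.isOpenEmbedding.isInducing.specializes_iff.1 ?_
      rw [hA.fromSpec_primeIdealOf, hA.fromSpec_primeIdealOf]
      exact i.2.1
    have heq : hA.primeIdealOf ⟨i.1, hTA i.1 i.2.1⟩ = p :=
      PrimeSpectrum.ext (le_antisymm ((PrimeSpectrum.le_iff_specializes _ _).2 hsp) hi)
    have := congrArg (fun z => hA.fromSpec z) heq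
    simp only [p, hA.fromSpec_primeIdealOf] at this
    exact hxU (this ▸ i.2.2)
  have hxf : x ∉ X.basicOpen f := fun h => (mem_basicOpen_iff hA hxA f).1 h hfp
  -- finitely many basic opens cover `A ∩ U`
  have hcpt : IsCompact ((A : Set X) ∩ U) := by
    have := (U.ι.isCompact_preimage hA.isCompact).image U.ι.continuous
    rw [show U.ι '' (U.ι ⁻¹ᵁ A : Set U) = _ from Set.image_preimage_eq_inter_range,
      Scheme.Opens.range_ι] at this
    exact this
  have hex : ∀ y : ↥((A : Set X) ∩ U), ∃ g : Γ(X, A), y.1 ∈ X.basicOpen g ∧ X.basicOpen g ≤ U :=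
    fun y => by
      obtain ⟨g, hg, hyg⟩ := hA.exists_basicOpen_le (V := U) ⟨y.1, y.2.2⟩ y.2.1
      exact ⟨g, hyg, hg⟩
  choose g hg hgU using hex
  obtain ⟨s, hs⟩ := hcpt.elim_finite_subcover (fun y => (X.basicOpen (g y) : Set X))
    (fun y => (X.basicOpen (g y)).isOpen) (fun y hy => Set.mem_iUnion.2 ⟨⟨y, hy⟩, hg ⟨y, hy⟩⟩)
  have hsh : ∀ i : ↥((A : Set X) ∩ U), ∃ t : Γ(X, A), x ∈ X.basicOpen t ∧
      X.basicOpen t ⊓ X.basicOpen (g i) ≤ X.basicOpen f := fun i =>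
    exists_shrink hA hxA (g i) _ fun y hy hyx =>
      (mem_basicOpen_iff hA (hTA y hyx) f).2 (hf ⟨y, hyx, hgU i hy⟩)
  choose t htx ht using hsh
  let T := ∏ i ∈ s, t i
  have hTle : ∀ i ∈ s, X.basicOpen T ≤ X.basicOpen (t i) := fun i hi => by
    rw [show T = t i * ∏ j ∈ s.erase i, t j from (Finset.mul_prod_erase s t hi).symm,
      Scheme.basicOpen_mul]
    exact inf_le_left
  have hxT : x ∈ X.basicOpen T := by
    rw [mem_basicOpen_iff hA hxA]
    exact Submonoid.prod_mem p.asIdeal.primeCompl (fun i _ => (mem_basicOpen_iff hA hxA _).1 (htx i))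
  refine ⟨X.basicOpen T, X.presheaf.map (homOfLE (X.basicOpen_le T)).op f, hA.basicOpen T, hxT,
    fun y hy => honly y (X.basicOpen_le T hy), ?_⟩
  rw [Scheme.basicOpen_res]
  ext y
  constructor
  · rintro ⟨hyT, hyU⟩
    obtain ⟨i, hi, hyi⟩ := Set.mem_iUnion₂.1 (hs ⟨X.basicOpen_le T hyT, hyU⟩)
    exact ⟨hyT, ht i ⟨hTle i hi hyT, hyi⟩⟩
  · rintro ⟨hyT, hyf⟩
    exact ⟨hyT, by_contra fun hyU => hxf (honly y (X.basicOpen_le T hyT) hyU ▸ hyf)⟩

end Groth.Agent.PicCurveLib
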